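import Groth.Agent.PdFlat.Syzygy
import Groth.Agent.DRingLib.TorDim
import Mathlib.CategoryTheory.Abelian.Projective.Dimension
import Mathlib.RingTheory.Support

/-!
# Projective dimension of flat finitely presented modules over finitely presented flat algebras
-/

set_option autoImplicit false
set_option linter.style.haveILetI false

universe u

open TensorProduct CategoryTheory

namespace Groth.Agent.PdFlat

variable {A B : Type u} [CommRing A] [CommRing B] [Algebra A B]

theorem hasPDLT_one_iff {R : Type u} [CommRing R] (M : Type u) [AddCommGroup M] [Module R M] :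
    HasProjectiveDimensionLT (ModuleCat.of R M) 1 ↔ Module.Projective R M := by
  rw [← projective_iff_hasProjectiveDimensionLT_one, IsProjective.iff_projective]

theorem hasPDLT_zero_iff {R : Type u} [CommRing R] (M : Type u) [AddCommGroup M] [Module R M] :
    HasProjectiveDimensionLT (ModuleCat.of R M) 0 ↔ Subsingleton M := by
  rw [hasProjectiveDimensionLT_zero_iff_isZero, ModuleCat.isZero_iff_subsingleton]

/-- Dimension shift along a presentation. -/
theorem hasPDLT_succ_iff {R : Type u} [CommRing R] {M : Type u} [AddCommGroup M] [Module R M]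
    {K F : Type u} [AddCommGroup K] [Module R K] [AddCommGroup F] [Module R F] [Module.Projective R F]
    (f : K →ₗ[R] F) (g : F →ₗ[R] M) (hf : Function.Injective f) (hg : Function.Surjective g)
    (hfg : Function.Exact f g) (n : ℕ) :
    HasProjectiveDimensionLT (ModuleCat.of R M) (n + 2) ↔
      HasProjectiveDimensionLT (ModuleCat.of R K) (n + 1) := by
  have h := TorLib.shortExact_mk f g hf hg hfg
  exact h.hasProjectiveDimensionLT_X₃_iff n
    ((IsProjective.iff_projective (R := R) (P := F)).mp inferInstance)

theorem hasPDLT_iff_hasTorDimLE [Algebra.FinitePresentation A B] [Module.Flat A B] :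
    ∀ (n : ℕ) (M : Type u) [AddCommGroup M] [Module B M] [Module A M] [IsScalarTower A B M]
      [Module.FinitePresentation B M] [Module.Flat A M],
      HasProjectiveDimensionLT (ModuleCat.of B M) (n + 1) ↔ DRing.HasTorDimLE B n M := by
  intro n
  induction n with
  | zero =>
    intro M _ _ _ _ _ _
    rw [hasPDLT_one_iff, DRingLib.hasTorDimLE_zero_iff]
    exact ⟨fun _ => inferInstance, fun _ => Module.Flat.projective_of_finitePresentation⟩
  | succ n ih =>
    intro M _ _ _ _ _ _
    obtain ⟨m, g, hg⟩ := Module.Finite.exists_fin' B M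
    obtain ⟨hK, hKA⟩ := finitePresentation_ker (A := A) g hg
    rw [hasPDLT_succ_iff (LinearMap.ker g).subtype g Subtype.val_injective hg
      (LinearMap.exact_subtype_ker_map g) n, ih (LinearMap.ker g)]
    exact ⟨WEField.torDim_shift_up _ _ M (LinearMap.ker g).subtype g Subtype.val_injective hg
        (LinearMap.exact_subtype_ker_map g) n,
      WEField.torDim_shift_down _ _ M (LinearMap.ker g).subtype g Subtype.val_injective hg
        (LinearMap.exact_subtype_ker_map g) n⟩

section Fibre

variable (k : Type u) [CommRing k] [Algebra A k]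

/-- `(B ⊗_A k) ⊗_B X ≅ X ⊗_A k`. -/
noncomputable def fibreEquiv (X : Type u) [AddCommGroup X] [Module B X] [Module A X] [IsScalarTower A B X] :
    (B ⊗[A] k) ⊗[B] X ≃ₗ[B] X ⊗[A] k :=
  (TensorProduct.comm B (B ⊗[A] k) X).trans (AlgebraTensorModule.cancelBaseChange A B B X k)

theorem baseChange_injective {M K F : Type u} [AddCommGroup M] [Module B M] [Module A M] [IsScalarTower A B M]
    [AddCommGroup K] [Module B K] [Module A K] [IsScalarTower A B K]
    [AddCommGroup F] [Module B F] [Module A F] [IsScalarTower A B F] [Module.Flat A M]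
    (f : K →ₗ[B] F) (g : F →ₗ[B] M) (hf : Function.Injective f) (hg : Function.Surjective g)
    (hfg : Function.Exact f g) : Function.Injective (f.baseChange (B ⊗[A] k)) := by
  have h1 : Function.Injective ((f.restrictScalars A).lTensor k) :=
    LinearMap.lTensor_injective_of_exact_of_flat (g.restrictScalars A) hg (f.restrictScalars A) hf hfg k
  rw [LinearMap.lTensor_inj_iff_rTensor_inj] at h1
  have hcomm : ∀ z, fibreEquiv k F (f.baseChange (B ⊗[A] k) z) =
      (f.restrictScalars A).rTensor k (fibreEquiv k K z) := by
    intro z
    induction z using TensorProduct.induction_on with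
    | zero => simp
    | add x y hx hy => simp only [map_add, hx, hy]
    | tmul r x =>
      induction r using TensorProduct.induction_on with
      | zero => simp
      | add r s hr hs => simp only [add_tmul, map_add, hr, hs]
      | tmul b c =>
        simp [fibreEquiv, AlgebraTensorModule.cancelBaseChange_tmul]
  intro x y hxy
  have h2 := congrArg (fibreEquiv k F) hxy
  rw [hcomm, hcomm] at h2
  exact (fibreEquiv k K).injective (h1 h2)

theorem baseChange_exact {M K F : Type u} [AddCommGroup M] [Module B M] [AddCommGroup K] [Module B K]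
    [AddCommGroup F] [Module B F] (R : Type u) [CommRing R] [Algebra B R]
    (f : K →ₗ[B] F) (g : F →ₗ[B] M) (hg : Function.Surjective g) (hfg : Function.Exact f g) :
    Function.Exact (f.baseChange R) (g.baseChange R) ∧ Function.Surjective (g.baseChange R) :=
  ⟨lTensor_exact R hfg hg, LinearMap.lTensor_surjective R hg⟩

end Fibre

theorem subsingleton_of_fibres {M : Type u} [AddCommGroup M] [Module B M] [Module.Finite B M]
    (h : ∀ (p : Ideal A) [p.IsPrime], Subsingleton ((B ⊗[A] p.ResidueField) ⊗[B] M)) :
    Subsingleton M := by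
  rw [← Module.support_eq_empty_iff (R := B), Set.eq_empty_iff_forall_notMem]
  intro q hq
  rw [Module.mem_support_iff_nontrivial_residueField_tensorProduct] at hq
  let p := q.asIdeal.comap (algebraMap A B)
  haveI := h p
  let ρ : B ⊗[A] p.ResidueField →ₐ[A] q.asIdeal.ResidueField :=
    Algebra.TensorProduct.lift (IsScalarTower.toAlgHom A B q.asIdeal.ResidueField)
      (Ideal.ResidueField.mapₐ p q.asIdeal (Algebra.ofId A B) rfl) fun _ _ => .all _ _
  let ρ' : (B ⊗[A] p.ResidueField) →ₗ[B] q.asIdeal.ResidueField :=
    { toFun := ρ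
      map_add' := map_add ρ
      map_smul' := fun b z => by
        rw [Algebra.smul_def, map_mul, RingHom.id_apply, Algebra.smul_def]
        congr 1
        rw [Algebra.TensorProduct.algebraMap_apply]
        simp [ρ] }
  have hsurj : Function.Surjective (ρ'.rTensor M) := by
    intro z
    induction z using TensorProduct.induction_on with
    | zero => exact ⟨0, map_zero _⟩
    | add x y hx hy =>
      obtain ⟨a, rfl⟩ := hx
      obtain ⟨b, rfl⟩ := hy
      exact ⟨a + b, map_add _ _ _⟩
    | tmul r x =>
      obtain ⟨t, ht⟩ : ∃ t : (B ⊗[A] p.ResidueField) ⊗[B] M,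
          ρ'.rTensor M t = (1 : q.asIdeal.ResidueField) ⊗ₜ x :=
        ⟨1 ⊗ₜ x, by rw [LinearMap.rTensor_tmul]; exact congrArg (· ⊗ₜ x) (map_one ρ)⟩
      rw [Subsingleton.elim t 0, map_zero] at ht
      refine ⟨0, ?_⟩
      rw [map_zero, show r ⊗ₜ[B] x = r • ((1 : q.asIdeal.ResidueField) ⊗ₜ[B] x) by
        rw [TensorProduct.smul_tmul', smul_eq_mul, mul_one], ← ht, smul_zero]
  exact not_subsingleton _ hsurj.subsingleton

theorem hasPDLT_iff_fibres [Algebra.FinitePresentation A B] [Module.Flat A B] :
    ∀ (n : ℕ) (M : Type u) [AddCommGroup M] [Module B M] [Module A M] [IsScalarTower A B M]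
      [Module.FinitePresentation B M] [Module.Flat A M],
      HasProjectiveDimensionLT (ModuleCat.of B M) n ↔ ∀ p : PrimeSpectrum A, HasProjectiveDimensionLT
        (ModuleCat.of (B ⊗[A] p.asIdeal.ResidueField) ((B ⊗[A] p.asIdeal.ResidueField) ⊗[B] M)) n := by
  intro n
  induction n with
  | zero =>
    intro M _ _ _ _ _ _
    simp only [hasPDLT_zero_iff]
    exact ⟨fun _ p => inferInstance, fun h => subsingleton_of_fibres (A := A) fun p _ => h ⟨p, inferInstance⟩⟩
  | succ n ih =>
    intro M _ _ _ _ _ _
    cases n with
    | zero =>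
      simp only [Nat.zero_add, hasPDLT_one_iff]
      refine ⟨fun _ p => inferInstance, fun h => ?_⟩
      haveI : Module.Flat B M := FlatLocus.flat_of_flat_fibres (A := A) fun p _ => by
        haveI := h ⟨p, inferInstance⟩
        infer_instance
      exact Module.Flat.projective_of_finitePresentation
    | succ n =>
      obtain ⟨m, g, hg⟩ := Module.Finite.exists_fin' B M
      obtain ⟨hK, hKA⟩ := finitePresentation_ker (A := A) g hg
      rw [hasPDLT_succ_iff (LinearMap.ker g).subtype g Subtype.val_injective hg
        (LinearMap.exact_subtype_ker_map g) n, ih (LinearMap.ker g)]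
      refine forall_congr' fun p => ?_
      obtain ⟨hex, hsurj⟩ := baseChange_exact (B ⊗[A] p.asIdeal.ResidueField) (LinearMap.ker g).subtype g hg
        (LinearMap.exact_subtype_ker_map g)
      exact (hasPDLT_succ_iff ((LinearMap.ker g).subtype.baseChange _) (g.baseChange _)
        (baseChange_injective p.asIdeal.ResidueField (LinearMap.ker g).subtype g Subtype.val_injective hg
          (LinearMap.exact_subtype_ker_map g)) hsurj hex n).symm

end Groth.Agent.PdFlat
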