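import Groth.Agent.PdFlat.Kernel
import Groth.Agent.DCohLib.FlatPerf
import Groth.Agent.FlatLocus.ModFlat

/-!
# Kernels of epimorphisms onto flat finitely presented sheaves of modules
-/

set_option autoImplicit false
set_option linter.style.haveILetI false

universe u

open CategoryTheory CategoryTheory.Limits AlgebraicGeometry TopologicalSpace Opposite

namespace Groth.Agent.PdFlat

theorem flat_of_forall_localized {A B N : Type u} [CommRing A] [CommRing B] [Algebra A B]
    [AddCommGroup N] [Module B N] [Module A N] [IsScalarTower A B N]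
    (h : ∀ P : Ideal B, [P.IsPrime] → Module.Flat A (LocalizedModule P.primeCompl N)) :
    Module.Flat A N := by
  haveI : IsLocalizedModule (⊥ : Submonoid B) (LinearMap.id : N →ₗ[B] N) :=
    { map_units := fun x => by
        obtain ⟨x, hx⟩ := x
        rw [Submonoid.mem_bot] at hx
        subst hx
        simp
      surj := fun y => ⟨⟨y, 1⟩, by simp⟩
      exists_of_eq := fun {x y} hxy => ⟨1, by simpa using hxy⟩ }
  exact FlatLocus.flat_localized_of_forall_prime (⊥ : Submonoid B) LinearMap.id fun P _ _ => h P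

theorem isFP_kernel_of_epi_onto_flat {X Y : Scheme.{u}} (f : X ⟶ Y) [LocallyOfFinitePresentation f]
    (G H : X.Modules) [Coh.IsQCoh G] [Coh.IsQCoh H] (hG : CohB1.IsFP G) (hH : CohB1.IsFP H)
    (hflat : FlatMod.IsFlatOver f H) (p : G ⟶ H) [Epi p] : CohB1.IsFP (kernel p) := by
  have hK : Coh.IsQCoh (kernel p) := (QCohLib.isQCoh_image p ‹_› ‹_›).1
  haveI := hK
  let ι := {q : X.affineOpens × Y.affineOpens // (q.1 : X.Opens) ≤ f ⁻¹ᵁ (q.2 : Y.Opens)}
  have hcov : ⨆ a : ι, ((a.1.1 : X.Opens)) = ⊤ := by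
    refine eq_top_iff.2 fun x _ => ?_
    obtain ⟨_, ⟨V : Y.Opens, (hV : IsAffineOpen V), rfl⟩, hxV, -⟩ :=
      Y.isBasis_affineOpens.exists_subset_of_mem_open (Set.mem_univ (f x)) isOpen_univ
    obtain ⟨_, ⟨W : X.Opens, (hW : IsAffineOpen W), rfl⟩, hxW, hWV⟩ :=
      X.isBasis_affineOpens.exists_subset_of_mem_open (a := x) (u := ↑(f ⁻¹ᵁ V)) hxV (f ⁻¹ᵁ V).2
    exact Opens.mem_iSup.2 ⟨⟨(⟨W, hW⟩, ⟨V, hV⟩), hWV⟩, hxW⟩
  refine PullbackMod.isFP_of_finitePresentation (kernel p) (fun a : ι => (a.1.1 : X.Opens))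
    (fun a => a.1.1.2) hcov ?_
  rintro ⟨⟨⟨W, hW⟩, ⟨V, hV⟩⟩, hWV⟩
  change W ≤ f ⁻¹ᵁ V at hWV
  show Module.FinitePresentation Γ(X, W) Γ(kernel p, W)
  letI := (f.appLE V W hWV).hom.toAlgebra
  letI := Module.compHom Γ(H, W) (f.appLE V W hWV).hom
  haveI : IsScalarTower Γ(Y, V) Γ(X, W) Γ(H, W) := .of_algebraMap_smul fun _ _ => rfl
  haveI : Algebra.FinitePresentation Γ(Y, V) Γ(X, W) :=
    LocallyOfFinitePresentation.finitePresentation_appLE f hV hW hWV
  haveI : Module.FinitePresentation Γ(X, W) Γ(H, W) := QCohLib.finitePresentation_sections H hH hW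
  haveI : Module.FinitePresentation Γ(X, W) Γ(G, W) := QCohLib.finitePresentation_sections G hG hW
  haveI : Module.Flat Γ(Y, V) Γ(H, W) := flat_of_forall_localized fun P hP => by
    let z : PrimeSpectrum Γ(X, W) := ⟨P, hP⟩
    have hx : hW.fromSpec z ∈ W := by
      rw [← SetLike.mem_coe, ← hW.range_fromSpec]; exact Set.mem_range_self _
    have h := (FlatLocus.isFlatOverAt_iff f H hV hW hWV (hW.fromSpec z) hx).mp (hflat _)
    have hz : hW.primeIdealOf ⟨hW.fromSpec z, hx⟩ = z :=
      hW.fromSpec.isOpenEmbedding.injective (hW.fromSpec_primeIdealOf _)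
    rw [hz] at h
    exact h
  have hS : (ShortComplex.mk (kernel.ι p) p (kernel.condition p)).ShortExact :=
    ShortComplex.ShortExact.mk' (ShortComplex.exact_of_f_is_kernel _ (kernelIsKernel _)) inferInstance inferInstance
  let g := FlatLocus.appL p W
  have hg : Function.Surjective g := QCohLib.app_surjective hS hK hW
  haveI := finitePresentation_ker_of_flat (A := Γ(Y, V)) g hg
  let j := (FlatLocus.appL (kernel.ι p) W).codRestrict (LinearMap.ker g) fun t => by
    show (kernel.ι p ≫ p).app W t = 0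
    rw [kernel.condition]; rfl
  refine Module.FinitePresentation.of_equiv (LinearEquiv.ofBijective j ⟨fun a b h => ?_, fun s => ?_⟩).symm
  · exact QCohLib.app_injective hS W (congrArg Subtype.val h)
  · obtain ⟨t, ht⟩ := QCohLib.kernel_app_exact p W s.1 s.2
    exact ⟨t, Subtype.ext ht⟩

end Groth.Agent.PdFlat
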