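import Groth.Agent.PdFlat.Syzygy

/-!
# Kernels of epimorphisms onto flat finitely presented modules
-/

set_option autoImplicit false
set_option linter.style.haveILetI false

universe u

open TensorProduct MvPolynomial Groth.Agent.GenFree Groth.Agent.FlatLocus

namespace Groth.Agent.PdFlat

/-- The kernel of a surjection of finitely presented modules onto a module flat over the base is
finitely presented. -/
theorem finitePresentation_ker_of_flat {A B M G : Type u} [CommRing A] [CommRing B] [Algebra A B]
    [Algebra.FinitePresentation A B] [AddCommGroup M] [Module B M] [Module A M]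
    [IsScalarTower A B M] [Module.FinitePresentation B M] [Module.Flat A M]
    [AddCommGroup G] [Module B G] [Module.FinitePresentation B G]
    (g : G →ₗ[B] M) (hg : Function.Surjective g) :
    Module.FinitePresentation B (LinearMap.ker g) := by
  obtain ⟨n, π, hπ, hker⟩ := Algebra.FinitePresentation.out (R := A) (A := B)
  let P := MvPolynomial (Fin n) A
  letI : Algebra P B := π.toRingHom.toAlgebra
  haveI : IsScalarTower A P B := IsScalarTower.of_algebraMap_eq fun a => (π.commutes a).symm
  haveI : Module.FinitePresentation P B :=
    Module.finitePresentation_of_surjective (Algebra.linearMap P B) hπ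
      (show (RingHom.ker π.toRingHom).FG from hker)
  letI : Module P M := Module.compHom M π.toRingHom
  haveI : IsScalarTower P B M := IsScalarTower.of_algebraMap_smul fun _ _ => rfl
  letI : Module P G := Module.compHom G π.toRingHom
  haveI : IsScalarTower P B G := IsScalarTower.of_algebraMap_smul fun _ _ => rfl
  haveI : IsScalarTower A P M := IsScalarTower.of_algebraMap_smul fun a x => by
    show π (algebraMap A P a) • x = a • x
    rw [π.commutes, algebraMap_smul]
  haveI : Module.FinitePresentation P M := Module.FinitePresentation.trans P M B
  haveI hF : Module.FinitePresentation P G := Module.FinitePresentation.trans P G B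
  obtain ⟨c, φ, hφ⟩ := Module.Finite.exists_fin' P G
  let gP := g.restrictScalars P
  haveI hL : Module.FinitePresentation P (LinearMap.ker (gP ∘ₗ φ)) :=
    finitePresentation_ker_polynomial (R := A) (gP ∘ₗ φ) (hg.comp hφ)
  let ψ : LinearMap.ker (gP ∘ₗ φ) →ₗ[P] LinearMap.ker g :=
    { toFun := fun x => ⟨φ x.1, x.2⟩
      map_add' := fun x y => Subtype.ext (map_add φ _ _)
      map_smul' := fun r x => Subtype.ext (map_smul φ _ _) }
  have hψ : Function.Surjective ψ := fun y => by
    obtain ⟨x, hx⟩ := hφ y.1
    exact ⟨⟨x, show g (φ x) = 0 by rw [hx]; exact y.2⟩, Subtype.ext hx⟩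
  haveI hK : Module.FinitePresentation P (LinearMap.ker g) := by
    refine Module.finitePresentation_of_surjective ψ hψ ?_
    refine (Submodule.fg_map_iff (f := (LinearMap.ker (gP ∘ₗ φ)).subtype) Subtype.val_injective).mp ?_
    have h1 : (LinearMap.ker ψ).map (LinearMap.ker (gP ∘ₗ φ)).subtype = LinearMap.ker φ := by
      ext x
      simp only [Submodule.mem_map, LinearMap.mem_ker]
      constructor
      · rintro ⟨y, hy, rfl⟩
        exact congrArg Subtype.val hy
      · intro hx
        exact ⟨⟨x, show g (φ x) = 0 by rw [hx, map_zero]⟩, Subtype.ext hx, rfl⟩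
    rw [h1]
    exact Module.FinitePresentation.fg_ker φ hφ
  haveI : Module.Finite B (LinearMap.ker g) := Module.Finite.of_restrictScalars_finite P B _
  obtain ⟨d, χ, hχ⟩ := Module.Finite.exists_fin' B (LinearMap.ker g)
  refine Module.finitePresentation_of_surjective χ hχ ?_
  haveI : Module.Finite P (Fin d → B) := Module.Finite.trans B _
  have h2 : (LinearMap.ker (χ.restrictScalars P)).FG :=
    Module.FinitePresentation.fg_ker _ hχ
  rw [LinearMap.ker_restrictScalars] at h2
  exact Submodule.FG.of_restrictScalars P h2

end Groth.Agent.PdFlat
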