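import Groth.Agent.FlatLocus.Syzygy
import Groth.Agent.FlatLocus.FibProj
import Groth.Agent.CAlgBasics.FlatAux
import Mathlib.RingTheory.FinitePresentation
import Mathlib.Algebra.Module.FinitePresentation
import Mathlib.RingTheory.Spectrum.Prime.Topology

/-!
# Syzygies of flat finitely presented modules over finitely presented algebras
-/

set_option autoImplicit false
set_option linter.style.haveILetI false

universe u

open TensorProduct MvPolynomial Groth.Agent.GenFree Groth.Agent.FlatLocus

namespace Groth.Agent.PdFlat

/-- Over a polynomial ring the relations between finitely many vectors are finitely generated as soon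
as the cokernel is flat over the base. -/
theorem ker_combMap_fg {R : Type u} [CommRing R] {a n k : ℕ} (v : Fin k → FreeMod R a n)
    [Module.Flat R (FreeMod R a n ⧸ Submodule.span (MvPolynomial (Fin n) R) (Set.range v))] :
    (LinearMap.ker (combMap v)).FG := by
  classical
  have hflat : ∀ q : PrimeSpectrum (MvPolynomial (Fin n) R),
      q ∈ flatSet (Submodule.span (MvPolynomial (Fin n) R) (Set.range v)) := fun q => by
    show Module.Flat R _
    rw [Module.Flat.iff_lTensor_injective']
    exact fun J => lTensor_injective_localized q.asIdeal.primeCompl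
      (LocalizedModule.mkLinearMap q.asIdeal.primeCompl _) J.subtype
      (Module.Flat.lTensor_preserves_injective_linearMap _ J.subtype_injective)
  choose G h hh hG hgen using fun q => exists_syzygy_generators v q (hflat q)
  obtain ⟨s, hs⟩ := isCompact_univ.elim_finite_subcover
    (fun q => (PrimeSpectrum.basicOpen (h q) : Set (PrimeSpectrum (MvPolynomial (Fin n) R))))
    (fun q => (PrimeSpectrum.basicOpen (h q)).isOpen) fun q _ => Set.mem_iUnion.mpr ⟨q, hh q⟩
  refine ⟨s.biUnion G, le_antisymm (Submodule.span_le.mpr fun σ hσ => ?_) fun c hc => ?_⟩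
  · obtain ⟨q, -, hq⟩ := Finset.mem_biUnion.mp hσ
    exact LinearMap.mem_ker.mpr (hG q σ hq)
  let W := Submodule.span (MvPolynomial (Fin n) R) ((s.biUnion G : Finset _) : Set (FreeMod R k n))
  show c ∈ W
  suffices hcol : W.colon {c} = ⊤ by
    have h1 : (1 : MvPolynomial (Fin n) R) ∈ W.colon {c} := hcol ▸ Submodule.mem_top
    rw [Submodule.mem_colon_singleton, one_smul] at h1
    exact h1
  by_contra hne
  obtain ⟨P, hP, hle⟩ := Ideal.exists_le_maximal _ hne
  obtain ⟨q, hqs, hqP⟩ := Set.mem_iUnion₂.mp (hs (Set.mem_univ ⟨P, hP.isPrime⟩))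
  obtain ⟨N, hN⟩ := hgen q c (LinearMap.mem_ker.mp hc)
  refine hqP (hP.isPrime.mem_of_pow_mem N (hle (Submodule.mem_colon_singleton.mpr ?_)))
  exact Submodule.span_mono (Finset.coe_subset.mpr (Finset.subset_biUnion_of_mem G hqs)) hN

/-- The kernel of a presentation of a flat module over a polynomial ring. -/
theorem finitePresentation_ker_polynomial {R M : Type u} [CommRing R] {a n : ℕ} [AddCommGroup M]
    [Module (MvPolynomial (Fin n) R) M] [Module R M] [IsScalarTower R (MvPolynomial (Fin n) R) M]
    [Module.FinitePresentation (MvPolynomial (Fin n) R) M] [Module.Flat R M]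
    (f : FreeMod R a n →ₗ[MvPolynomial (Fin n) R] M) (hf : Function.Surjective f) :
    Module.FinitePresentation (MvPolynomial (Fin n) R) (LinearMap.ker f) := by
  obtain ⟨k, v, hv⟩ := Submodule.fg_iff_exists_fin_generating_family.mp
    (Module.FinitePresentation.fg_ker f hf)
  haveI : Module.Flat R (FreeMod R a n ⧸ Submodule.span (MvPolynomial (Fin n) R) (Set.range v)) :=
    Module.Flat.of_linearEquiv
      (((Submodule.quotEquivOfEq _ _ hv).trans (f.quotKerEquivOfSurjective hf)).restrictScalars R)
  let g := (combMap v).codRestrict (LinearMap.ker f) fun c => by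
    rw [← hv, ← range_combMap v]; exact LinearMap.mem_range_self _ c
  have hg : Function.Surjective g := fun y => by
    obtain ⟨c, hc⟩ : (y : FreeMod R a n) ∈ LinearMap.range (combMap v) := by
      rw [range_combMap, hv]; exact y.2
    exact ⟨c, Subtype.ext hc⟩
  refine Module.finitePresentation_of_surjective g hg ?_
  rw [LinearMap.ker_codRestrict]
  exact ker_combMap_fg v

/-- The first syzygy of a finitely presented module flat over the base is again finitely presented
and flat over the base. -/
theorem finitePresentation_ker {A B M : Type u} [CommRing A] [CommRing B] [Algebra A B]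
    [Algebra.FinitePresentation A B] [Module.Flat A B] [AddCommGroup M] [Module B M] [Module A M]
    [IsScalarTower A B M] [Module.FinitePresentation B M] [Module.Flat A M] {m : ℕ}
    (g : (Fin m → B) →ₗ[B] M) (hg : Function.Surjective g) :
    Module.FinitePresentation B (LinearMap.ker g) ∧ Module.Flat A (LinearMap.ker g) := by
  refine ⟨?_, ?_⟩
  swap
  · haveI : Module.Flat A (Fin m → B) := Module.Flat.trans A B _
    exact Groth.Agent.CAlgBasics.flat_ker_of_exact (R := A)
      (f := (LinearMap.ker g).subtype.restrictScalars A) (g := g.restrictScalars A)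
      Subtype.val_injective (fun x => (LinearMap.exact_subtype_ker_map g) x) hg
  obtain ⟨n, π, hπ, hker⟩ := Algebra.FinitePresentation.out (R := A) (A := B)
  let P := MvPolynomial (Fin n) A
  letI : Algebra P B := π.toRingHom.toAlgebra
  haveI : IsScalarTower A P B := IsScalarTower.of_algebraMap_eq fun a => (π.commutes a).symm
  haveI : Module.FinitePresentation P B :=
    Module.finitePresentation_of_surjective (Algebra.linearMap P B) hπ
      (show (RingHom.ker π.toRingHom).FG from hker)
  letI : Module P M := Module.compHom M π.toRingHom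
  haveI : IsScalarTower P B M := IsScalarTower.of_algebraMap_smul fun _ _ => rfl
  haveI : IsScalarTower A P M := IsScalarTower.of_algebraMap_smul fun a x => by
    show π (algebraMap A P a) • x = a • x
    rw [π.commutes, algebraMap_smul]
  haveI : Module.FinitePresentation P M := Module.FinitePresentation.trans P M B
  haveI hF : Module.FinitePresentation P (Fin m → B) := Module.FinitePresentation.trans P (Fin m → B) B
  obtain ⟨c, φ, hφ⟩ := Module.Finite.exists_fin' P (Fin m → B)
  let gP := g.restrictScalars P
  haveI hL : Module.FinitePresentation P (LinearMap.ker (gP ∘ₗ φ)) :=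
    finitePresentation_ker_polynomial (R := A) (gP ∘ₗ φ) (hg.comp hφ)
  let ψ : LinearMap.ker (gP ∘ₗ φ) →ₗ[P] LinearMap.ker g :=
    { toFun := fun x => ⟨φ x.1, x.2⟩
      map_add' := fun x y => Subtype.ext (map_add φ _ _)
      map_smul' := fun r x => Subtype.ext (map_smul φ _ _) }
  have hψ : Function.Surjective ψ := fun y => by
    obtain ⟨x, hx⟩ := hφ y.1
    exact ⟨⟨x, show g (φ x) = 0 by rw [hx]; exact y.2⟩, Subtype.ext hx⟩
  haveI hK : Module.FinitePresentation P (LinearMap.ker g) := by
    refine Module.finitePresentation_of_surjective ψ hψ ?_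
    refine (Submodule.fg_map_iff (f := (LinearMap.ker (gP ∘ₗ φ)).subtype) Subtype.val_injective).mp ?_
    have h1 : (LinearMap.ker ψ).map (LinearMap.ker (gP ∘ₗ φ)).subtype = LinearMap.ker φ := by
      ext x
      simp only [Submodule.mem_map, LinearMap.mem_ker]
      constructor
      · rintro ⟨y, hy, rfl⟩
        exact congrArg Subtype.val hy
      · intro hx
        exact ⟨⟨x, show g (φ x) = 0 by rw [hx, map_zero]⟩, Subtype.ext hx, rfl⟩
    rw [h1]
    exact Module.FinitePresentation.fg_ker φ hφ
  haveI : Module.Finite B (LinearMap.ker g) := Module.Finite.of_restrictScalars_finite P B _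
  obtain ⟨d, χ, hχ⟩ := Module.Finite.exists_fin' B (LinearMap.ker g)
  refine Module.finitePresentation_of_surjective χ hχ ?_
  haveI : Module.Finite P (Fin d → B) := Module.Finite.trans B _
  have h2 : (LinearMap.ker (χ.restrictScalars P)).FG :=
    Module.FinitePresentation.fg_ker _ hχ
  rw [LinearMap.ker_restrictScalars] at h2
  exact Submodule.FG.of_restrictScalars P h2

end Groth.Agent.PdFlat
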